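import Cfsg.Agent.H15.F23b.P
set_option autoImplicit false
set_option maxRecDepth 100000

namespace Cfsg.Agent.H15.F23b
open Cfsg.Agent.H15 Cfsg.Agent.H14

theorem c17476 : RowsGood P ls 17476 17542 :=
  rowsGood_of (Js := [nat_lit 0x216be2026002400361006a84, nat_lit 0x216d7043600240037f32, nat_lit 0x20b8e1f5e00240039f0062, nat_lit 0x20b9e14320024003990064, nat_lit 0x2135e0c520024003930066, nat_lit 0x4176c821c004800726481112a001500323002c, nat_lit 0x20bb6410e00240036108897000a8018b80444a8926c3c120033003573c, nat_lit 0x4177c80440048006fe00b8ad112e83270f3f863a43c1200550052d, nat_lit 0x4178c8e540048006c241788000190058f, nat_lit 0x4178c8e540048007464178800150034d, nat_lit 0x4179c8e5c0048007464179800150034d, nat_lit 0x417ac8e4400480074e417a800150036b, nat_lit 0x417bc67d4004800726417b8001500327, nat_lit 0x82f78cfa8009000e9c82f70002a006da417b8001500369, nat_lit 0x88a530af20024003a300, nat_lit 0x417cc67cc004800732417c8001500319, nat_lit 0x417dc849c0048007320111520001500365, nat_lit 0x417ec8e7400480074e417e800150036b, nat_lit 0x4180c673c00480073241808001500319, nat_lit 0x4180c673c00480074e4180800150036d,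 nat_lit 0x418dc83a400480073e0111620001500347, nat_lit 0x4183c670400480073e4183800150030d, nat_lit 0x4184c825400480073e01116a0001500363, nat_lit 0x418bc66ac00480073e418b800150030d, nat_lit 0x418bc66ac00480074e418b800150036d, nat_lit 0x418dc83a40048007320111760001500349, nat_lit 0x8321902d8009000e4e22f50646889341769f63d04827d070ff667fb33daa9de34e9220e1f05af823fc0e3607a302f68127c0bd604fd03388142c0a1603e10179808fc047e01b700a6803d4029600f300798051c035a022f015680ab4041e01950098804c4026200e1004f801d400a60053003d802c401fa00b30059801f400fa00ad007c803e4029a00f500a4806bc046602b101bd811a408920449023f811fc0b86076504b782fbc146e080905288340c206a13e30c3b850cc286610750a1c8638c3cf205da059a988, nat_lit 0x445f8000170042f00, nat_lit 0x88c100002e0086f1182000150033500, nat_lit 0x44618000170043b00, nat_lit 0x88c500002e0087e01118a000150033d, nat_lit 0x44638000170043100, nat_lit 0x849f8f848009000e4c0223240002a006f311920001500375, nat_lit 0x84a18f838009000e4c02232c0002a006bf1196000150034b, nat_lit 0x1119a6232c00480074601119a000150034f, nat_lit 0x2233cc4688009000d8400849f0002a006da424f8001500385, nat_lit 0x2128400003600cde0042508001500385,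 nat_lit 0x111a66233c00480070e4251800150036d, nat_lit 0x446a8000170047100, nat_lit 0x446b8000170047100, nat_lit 0x446c8000170047100, nat_lit 0x446d8000170047100, nat_lit 0x446e8000170047100, nat_lit 0x446f8000170047100, nat_lit 0x88e1000003600d2f11c2000150030500, nat_lit 0x44718000170047100, nat_lit 0x44728000170047100, nat_lit 0x44738000170047300, nat_lit 0x44748000170047300, nat_lit 0x44758000170041300, nat_lit 0x44768000170047300, nat_lit 0x44778000170041b00, nat_lit 0x44788000170047300, nat_lit 0x44798000170047300, nat_lit 0x447a8000170047300, nat_lit 0x88f7000003600d2311ee000150031300, nat_lit 0x447c8000170047300, nat_lit 0x447d8000170042100, nat_lit 0x447e8000170042100, nat_lit 0x447f8000170042100, nat_lit 0x44808000170042900, nat_lit 0x44818000170042300, nat_lit 0x8905000003600d13120a000150032900, nat_lit 0x44838000170047500, nat_lit 0x890900002e0094a0112120001500379, nat_lit 0x44858ad7c4ac625610f6c8954400cc00c8a011216000150035f]) (by decide +kernel)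
theorem f2 : RowsGood P ls 17476 17542 :=
  c17476

end Cfsg.Agent.H15.F23b
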